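import Groth.Agent.CastelBiratLib.Bound
import Groth.Agent.CurveH0Lib.NineApps

/-!
# Products of Riemann–Roch spaces
-/

set_option autoImplicit false
set_option linter.unusedSectionVars false
set_option linter.style.haveILetI false
universe u v

open FunFld
open Groth.Agent.FFLib hiding degHom
open CastelBiratLib

noncomputable section

namespace CanonRingLib

variable {k : Type u} {K : Type v} [Field k] [IsAlgClosed k] [Field K] [Algebra k K]
  (hK : FunFld.IsFunctionField k K)

/-- The span of the products of two Riemann–Roch spaces. -/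
def W (A B : Divisor k K) : Submodule k K :=
  Submodule.span k {x | ∃ f ∈ L A, ∃ g ∈ L B, x = f * g}

theorem mul_mem_W {A B : Divisor k K} {f g x : K} (hf : f ∈ L A) (hg : g ∈ L B) (h : x = f * g) : x ∈ W A B :=
  Submodule.subset_span ⟨f, hf, g, hg, h⟩

theorem W_le (A B : Divisor k K) : W A B ≤ L (A + B) := by
  rw [W, Submodule.span_le]
  rintro _ ⟨f, hf, g, hg, rfl⟩
  exact CurveH0Lib.mul_mem_L hf hg

theorem W_mono (A : Divisor k K) {B B' : Divisor k K} (h : B' ≤ B) : W A B' ≤ W A B := by
  rw [W, Submodule.span_le]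
  rintro _ ⟨f, hf, g, hg, rfl⟩
  exact mul_mem_W hf (L_mono h hg) rfl

include hK in
theorem finite_W (A B : Divisor k K) : Module.Finite k (W A B) :=
  haveI := Groth.Agent.S10976.result k K hK (A + B)
  Submodule.finiteDimensional_of_le (W_le A B)

include hK in
/-- The base point free pencil trick. -/
theorem trick_span {D H : Divisor k K} (hD : 2 ≤ ell D) (hbpf : ∀ P, ell (D - Finsupp.single P 1) < ell D) (h2 : ell D = 2) :
    2 * ell H ≤ Module.finrank k (W H D) + ell (H - D) := by
  classical
  haveI := Groth.Agent.S10976.result k K hK D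
  haveI := Groth.Agent.S10976.result k K hK H
  haveI := finite_W hK H D
  haveI := Groth.Agent.S10976.result k K hK (H - D)
  let b : Module.Basis (Fin 2) k (L D) := Module.finBasisOfFinrankEq k (L D) h2
  let f : L H × L H →ₗ[k] W H D :=
    { toFun := fun x => ⟨(b 0).1 * x.1.1 + (b 1).1 * x.2.1,
        add_mem (mul_mem_W x.1.2 (b 0).2 (mul_comm _ _)) (mul_mem_W x.2.2 (b 1).2 (mul_comm _ _))⟩
      map_add' := fun x y => Subtype.ext (by simp; ring)
      map_smul' := fun c x => Subtype.ext (by simp [Algebra.smul_def]; ring) }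
  have hs0 : (b 0).1 ≠ 0 := fun h => b.ne_zero 0 (Subtype.ext h)
  have hker : ∀ x : LinearMap.ker f, x.1.2.1 / (b 0).1 ∈ L (H - D) := fun x => by
    rcases eq_or_ne x.1.2.1 0 with h0 | h0
    · rw [h0, zero_div]; exact zero_mem _
    have hx : (b 0).1 * x.1.1.1 + (b 1).1 * x.1.2.1 = 0 := congrArg Subtype.val (LinearMap.mem_ker.1 x.2)
    refine (mem_L_iff (div_ne_zero h0 hs0)).2 fun P => ?_
    obtain ⟨z, hz, hv, hz'⟩ := CurveH0Lib.Nine.exists_exact hK (hbpf P)
    have hz0 : z ≠ 0 := fun h => hz' (h ▸ zero_mem _)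
    obtain ⟨a, c, rfl⟩ : ∃ a c : k, z = algebraMap k K a * (b 0).1 + algebraMap k K c * (b 1).1 := by
      refine ⟨b.repr ⟨z, hz⟩ 0, b.repr ⟨z, hz⟩ 1, ?_⟩
      have h := b.sum_repr ⟨z, hz⟩
      rw [Fin.sum_univ_two] at h
      have h' := congrArg Subtype.val h.symm
      rw [Submodule.coe_add, Submodule.coe_smul, Submodule.coe_smul, Algebra.smul_def, Algebra.smul_def] at h'
      exact h'
    set φ := x.1.2.1 / (b 0).1
    have hφ : x.1.2.1 = φ * (b 0).1 := (div_mul_cancel₀ _ hs0).symm
    have h1 : x.1.1.1 = -(φ * (b 1).1) := by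
      refine mul_left_cancel₀ hs0 ?_
      rw [hφ] at hx
      linear_combination hx
    have hmem : φ * (algebraMap k K a * (b 0).1 + algebraMap k K c * (b 1).1) ∈ L H := by
      have h2 : φ * (algebraMap k K a * (b 0).1 + algebraMap k K c * (b 1).1) =
          a • x.1.2.1 - c • x.1.1.1 := by
        rw [Algebra.smul_def, Algebra.smul_def, hφ, h1]; ring
      rw [h2]
      exact sub_mem (Submodule.smul_mem _ _ x.1.2.2) (Submodule.smul_mem _ _ x.1.1.2)
    have hφ0 : φ ≠ 0 := div_ne_zero h0 hs0
    have h3 := (mem_L_iff (mul_ne_zero hφ0 hz0)).1 hmem P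
    rw [ord_mul P hφ0 hz0, (v_eq_exp_iff P hz0 _).1 hv] at h3
    rw [Finsupp.sub_apply]
    omega
  let g : LinearMap.ker f →ₗ[k] L (H - D) :=
    { toFun := fun x => ⟨x.1.2.1 / (b 0).1, hker x⟩
      map_add' := fun x y => Subtype.ext (by simp [add_div])
      map_smul' := fun c x => Subtype.ext (by simp [Algebra.smul_def, mul_div_assoc]) }
  have hg' : Function.Injective g := by
    rw [injective_iff_map_eq_zero]
    intro x hx
    have h0 : x.1.2.1 = 0 := (div_eq_zero_iff.1 (congrArg Subtype.val hx)).resolve_right hs0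
    have hx' : (b 0).1 * x.1.1.1 + (b 1).1 * x.1.2.1 = 0 := congrArg Subtype.val (LinearMap.mem_ker.1 x.2)
    rw [h0, mul_zero, add_zero] at hx'
    exact Subtype.ext (Prod.ext (Subtype.ext ((mul_eq_zero.1 hx').resolve_left hs0)) (Subtype.ext h0))
  have h5 := LinearMap.finrank_le_finrank_of_injective hg'
  have h6 := LinearMap.finrank_range_add_finrank_ker f
  have h7 := Submodule.finrank_le (LinearMap.range f)
  rw [Module.finrank_prod] at h6
  simp only [ell]
  omega

variable [CharZero k] {C : Divisor k K} (hC : IsCanonical k K C)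

include hK in
theorem W_sub_lt {A B : Divisor k K} (hA : Bpf A) (hB : Bpf B) (P : Place k K) :
    Module.finrank k (W A (B - Finsupp.single P 1)) < Module.finrank k (W A B) := by
  obtain ⟨a, ha, haP, -⟩ := exists_avoid hK (hA P) (hA P)
  obtain ⟨b, hb, hbP, -⟩ := exists_avoid hK (hB P) (hB P)
  obtain ⟨ha0, hao⟩ := ord_eq_of_notMem ha haP
  obtain ⟨hb0, hbo⟩ := ord_eq_of_notMem hb hbP
  haveI := finite_W hK A B
  refine Submodule.finrank_lt_finrank_of_lt (lt_of_le_of_ne (W_mono A (sub_single_le B P)) fun e => ?_)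
  have hab : a * b ∈ L (A + (B - Finsupp.single P 1)) := W_le _ _ (e ▸ mul_mem_W ha hb rfl)
  have := (mem_L_iff (mul_ne_zero ha0 hb0)).1 hab P
  rw [ord_mul P ha0 hb0, hao, hbo, Finsupp.add_apply, Finsupp.sub_apply, Finsupp.single_eq_same] at this
  omega

include hK hC in
theorem exists_projections_W {D : Divisor k K} (hD : Bpf D) (hbir : Birat D) {r : ℕ} (hl : ell D = r + 1) :
    ∀ j : ℕ, j + 2 ≤ r → j + 1 ≤ genus k K + 1 → ∃ D' : Divisor k K, Bpf D' ∧ Birat D' ∧ ell D' + j = r + 1 ∧
      (∀ H, Bpf H → Module.finrank k (W H D') + j ≤ Module.finrank k (W H D)) ∧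
      ell (D - D') = 1 ∧ (D - D').deg = (j : ℤ) := by
  intro j
  induction j with
  | zero =>
    intro _ _
    exact ⟨D, hD, hbir, hl, fun H _ => le_rfl, by rw [sub_self, ell_zero hK], by simp [deg_zero]⟩
  | succ j ih =>
    intro hjr hjg
    obtain ⟨D', hD', hbir', hl', hq, hS1, hSd⟩ := ih (by omega) (by omega)
    have h1 : 1 ≤ ell (C - (D - D')) := by
      have hr := riemann_roch hK hC (D - D')
      omega
    haveI := infinite_places hK
    obtain ⟨P, -, hP⟩ := Set.infinite_univ.exists_notMem_finite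
      ((finite_not_birat hK (D := D') (by omega) hD' hbir').union (finite_base hK h1))
    simp only [Set.mem_union, Set.mem_setOf_eq, not_or, not_not] at hP
    obtain ⟨⟨hb1, hb2⟩, hPc⟩ := hP
    refine ⟨D' - Finsupp.single P 1, hb1, hb2, ?_, fun H hH => ?_, ?_, ?_⟩
    · have := hD' P
      have := step hK D' P
      omega
    · have := W_sub_lt hK hH hD' P
      have := hq H hH
      omega
    · have hr1 := riemann_roch hK hC (D - D')
      have hr2 := riemann_roch hK hC (D - (D' - Finsupp.single P 1))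
      have hst := step hK (C - (D - D')) P
      rw [show C - (D - (D' - Finsupp.single P 1)) = C - (D - D') - Finsupp.single P 1 by abel,
        show D - (D' - Finsupp.single P 1) = (D - D') + Finsupp.single P 1 by abel, deg_add, deg_single, deg_eq_one hK,
        hSd] at hr2
      rw [show D - (D' - Finsupp.single P 1) = (D - D') + Finsupp.single P 1 by abel]
      rw [hSd] at hr1
      omega
    · rw [show D - (D' - Finsupp.single P 1) = (D - D') + Finsupp.single P 1 by abel, deg_add, deg_single, deg_eq_one hK,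
        hSd]
      push_cast
      ring

include hK hC in
/-- Max Noether's theorem. -/
theorem W_eq_of_nonhyperelliptic (hg : 3 ≤ genus k K) (h2 : ∀ A : Divisor k K, A.deg = 2 → ell A ≤ 1) :
    ∀ m : ℕ, L ((m + 1) • C) ≤ W (m • C) C := by
  classical
  obtain ⟨hlC, hdC⟩ := canonical_ell_deg hK hC
  have hd1 : ∀ P : Place k K, Divisor.deg (Finsupp.single P (1 : ℤ)) = 1 := fun P => by
    rw [deg_single, deg_eq_one hK]; norm_num
  -- the canonical system separates all places
  have hpair : ∀ P Q : Place k K, ell (C - Finsupp.single P 1 - Finsupp.single Q 1) + 2 = ell C := fun P Q => by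
    have hd : Divisor.deg (Finsupp.single P (1 : ℤ) + Finsupp.single Q 1) = 2 := by rw [deg_add, hd1, hd1]; norm_num
    have hr := riemann_roch hK hC (Finsupp.single P (1 : ℤ) + Finsupp.single Q 1)
    have := h2 _ hd
    have h0 : 1 ≤ ell (Finsupp.single P (1 : ℤ) + Finsupp.single Q 1) := by
      have := ell_mono hK.1 (show (0 : Divisor k K) ≤ Finsupp.single P (1 : ℤ) + Finsupp.single Q 1 from
        add_nonneg (Finsupp.single_nonneg.2 zero_le_one) (Finsupp.single_nonneg.2 zero_le_one))
      rw [ell_zero hK] at this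
      exact this
    rw [sub_sub]
    omega
  have hbC : Bpf C := fun P => by
    have := hpair P P
    have := step hK (C - Finsupp.single P 1) P
    omega
  have hbir : Birat C := ⟨∅, fun P Q _ _ _ => by
    have := hpair P Q
    have := step hK C P
    omega⟩
  have hbm : ∀ m : ℕ, Bpf ((m + 1) • C) := fun m => by
    induction m with
    | zero => rw [zero_add, one_nsmul]; exact hbC
    | succ m ih => exact fun P => by rw [succ_nsmul]; exact ell_sub_lt_add hK ih hbC P
  intro m
  rcases m with _ | m
  · intro f hf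
    rw [zero_add, one_nsmul] at hf
    exact mul_mem_W (f := 1) (by rw [zero_nsmul, L_zero hK]; exact Submodule.mem_one.2 ⟨1, by simp⟩) hf (one_mul f).symm
  obtain ⟨r, hr⟩ : ∃ r, genus k K = r + 1 := ⟨genus k K - 1, by omega⟩
  obtain ⟨D', hD', hbir', hl', hq, hS1, hSd⟩ :=
    exists_projections_W hK hC hbC hbir (r := r) (by omega) (r - 2) (by omega) (by omega)
  have h1 : 1 ≤ ell (C - (C - D')) := by
    have hr := riemann_roch hK hC (C - D')
    omega
  haveI := infinite_places hK
  obtain ⟨P, -, hP⟩ := Set.infinite_univ.exists_notMem_finite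
    ((finite_not_bpf hK (D := D') (by omega) hD' hbir').union (finite_base hK h1))
  simp only [Set.mem_union, Set.mem_setOf_eq, not_or, not_not] at hP
  obtain ⟨hb1, hPc⟩ := hP
  have hlB : ell (D' - Finsupp.single P 1) = 2 := by
    have := hD' P
    have := step hK D' P
    omega
  set H := (m + 1) • C with hH
  have htr := trick_span hK (D := D' - Finsupp.single P 1) (H := H) (by omega) hb1 hlB
  have hadd := W_sub_lt hK (hbm m) hD' P
  have hqH := hq H (hbm m)
  rw [← hH] at hadd
  haveI := finite_W hK H C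
  haveI := Groth.Agent.S10976.result k K hK (H + C)
  have hle := W_le H C
  rw [show (m + 1 + 1) • C = H + C from succ_nsmul C (m + 1)]
  refine (Submodule.eq_of_le_of_finrank_le hle ?_).ge
  show ell (H + C) ≤ Module.finrank k (W H C)
  -- counting
  have hS : (C - (D' - Finsupp.single P 1)).deg = (r : ℤ) - 1 := by
    rw [show C - (D' - Finsupp.single P 1) = (C - D') + Finsupp.single P 1 by abel, deg_add, hd1, hSd]
    omega
  rw [show H - (D' - Finsupp.single P 1) = m • C + (C - (D' - Finsupp.single P 1)) by rw [hH, succ_nsmul]; abel] at htr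
  have hdH : H.deg = ((m : ℤ) + 1) * (2 * genus k K - 2) := by rw [hH, deg_nsmul, hdC]; push_cast; ring
  have hdHC : (H + C).deg = ((m : ℤ) + 2) * (2 * genus k K - 2) := by rw [deg_add, hdH, hdC]; ring
  have e1 : (ell (H + C) : ℤ) = (H + C).deg + 1 - genus k K :=
    ell_eq_of_deg_ge hK (by rw [hdHC]; nlinarith)
  rcases m with _ | m
  · rw [zero_nsmul, zero_add] at htr
    have hr1 := riemann_roch hK hC (C - D')
    have hr2 := riemann_roch hK hC (C - (D' - Finsupp.single P 1))
    rw [show C - (C - (D' - Finsupp.single P 1)) = C - (C - D') - Finsupp.single P 1 by abel, hS] at hr2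
    rw [hSd] at hr1
    rw [hH, one_nsmul] at htr hqH hadd e1 hdHC ⊢
    push_cast at hdHC
    omega
  · have hd' : ((m + 1) • C + (C - (D' - Finsupp.single P 1))).deg = ((m : ℤ) + 1) * (2 * genus k K - 2) + ((r : ℤ) - 1) := by
      rw [deg_add, deg_nsmul, hdC, hS]; push_cast; ring
    have e2 : (ell ((m + 1) • C + (C - (D' - Finsupp.single P 1))) : ℤ) =
        ((m + 1) • C + (C - (D' - Finsupp.single P 1))).deg + 1 - genus k K :=
      ell_eq_of_deg_ge hK (by rw [hd']; nlinarith)
    have e3 : (ell H : ℤ) = H.deg + 1 - genus k K := ell_eq_of_deg_ge hK (by rw [hdH]; push_cast; nlinarith)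
    rw [hd'] at e2
    rw [hdH] at e3
    rw [hdHC] at e1
    push_cast at e1 e3 htr hqH hadd ⊢
    rw [hr] at e1 e2 e3
    push_cast at e1 e2 e3
    have hr2' : ((r - 2 : ℕ) : ℤ) = (r : ℤ) - 2 := by omega
    have hqH' : ((Module.finrank k (W H D') : ℤ)) + ((r - 2 : ℕ) : ℤ) ≤ (Module.finrank k (W H C) : ℤ) := by
      exact_mod_cast hqH
    zify at htr hadd ⊢
    rw [hr2'] at hqH'
    linarith

end CanonRingLib

end
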