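import Groth.Agent.CanonRingLib.Sections
import Groth.Agent.CanonRingLib.MulSpan
import Groth.Agent.CurveH0Lib.Quintic

/-!
# The canonical ring of a non-hyperelliptic curve is generated in degree one
-/

set_option autoImplicit false
set_option linter.style.haveILetI false
set_option linter.unusedSectionVars false
universe u

open CategoryTheory CategoryTheory.Limits AlgebraicGeometry TopologicalSpace Opposite
open FunFld CurveDualLib

noncomputable section

namespace CanonRingLib

attribute [local instance] algFF

variable {k : Type u} [Field k] [IsAlgClosed k] {X : Scheme.{u}} [X.Over (Spec (CommRingCat.of k))] [IsIntegral X]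
  [IsProper (X ↘ Spec (CommRingCat.of k))] [Smooth (X ↘ Spec (CommRingCat.of k))]
  (hdim : topologicalKrullDim X = 1)

include hdim in
theorem hasDiv_structure : ZetaCurveLib.HasDiv (k := k) hdim (Coh.structureModule X) 0 := by
  have h0 := RRVanLib.finrank_h0_structure (k := k) (X := X)
  have hK := isFunctionField (k := k) (X := X) hdim
  have hO : PicF.IsInvertible (Coh.structureModule X) := CurvLib.isInvertible_structureModule
  obtain ⟨D, hD⟩ := ZetaCurveLib.exists_hasDiv (k := k) hdim hO
  obtain ⟨f, hf, he⟩ := hD.unique hdim h0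
    ((hD.tensor hdim hD).of_iso hdim (HilbPolyLib.unitLeft (Coh.structureModule X)) hO)
  have hD0 : D = FunFld.div k f := by linear_combination (norm := abel) he
  have h := hD.add_div hdim h0 (inv_ne_zero hf)
  rwa [hD0, Groth.Agent.FFLib.div_inv hK.1, add_neg_cancel] at h

include hdim in
theorem hasDiv_pow {K : X.Modules} {C : Divisor k X.functionField} (h : ZetaCurveLib.HasDiv (k := k) hdim K C) :
    ∀ m : ℕ, ZetaCurveLib.HasDiv (k := k) hdim (CohB1.tensorPow K m) (m • C)
  | 0 => by rw [zero_nsmul]; exact hasDiv_structure hdim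
  | m + 1 => by rw [succ_nsmul]; exact (hasDiv_pow h m).tensor hdim h

variable [CharZero k]

include hdim in
/-- Max Noether. -/
theorem surjective_mulMap (hg : 3 ≤ Curv2.genus k X)
    (hnh : ∀ A : Divisor k X.functionField, A.deg = 2 → ell A ≤ 1)
    {K : X.Modules} (eK : K ≅ Omega.sheaf (X ↘ Spec (CommRingCat.of k))) (m : ℕ) :
    Function.Surjective ((toSheafify (Opens.grothendieckTopology X)
      (CohB1.tensorPre (CohB1.tensorPow K m) K).presheaf).app (Opposite.op ⊤)) := by
  obtain ⟨C, hCd, hC⟩ := CurveH0Lib.LinStable.exists_canonical_hasDiv (k := k) hdim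
  have hK := isFunctionField (k := k) (X := X) hdim
  have hKd : ZetaCurveLib.HasDiv (k := k) hdim K C :=
    hCd.of_iso hdim eK.symm (HilbPolyLib.isInvertible_of_iso eK.symm (omega_invertible hdim))
  obtain ⟨hA, σA, hσA, hDA⟩ := hasDiv_pow hdim hKd m
  obtain ⟨hB, σB, hσB, hDB⟩ := hKd
  refine surjective_mul hdim hA hσA hDA hB hσB hDB ?_
  rw [← succ_nsmul]
  exact W_eq_of_nonhyperelliptic hK hC (by rw [genus_eq (k := k) hdim]; exact hg) hnh m

end CanonRingLib

end
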