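import Groth.Agent.CurveDualLib.Div
import Groth.Agent.CurveDualLib.DualClosed

/-!
# Global sections as functions, compatibly with products
-/

set_option autoImplicit false
set_option linter.style.haveILetI false
set_option linter.unusedSectionVars false
universe u

open CategoryTheory CategoryTheory.Limits AlgebraicGeometry TopologicalSpace Opposite
open DevissLib WithZero
open Groth.Agent.FFLib (v_ne_zero v_eq ord_mul)

noncomputable section

namespace CanonRingLib

open CurveDualLib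

attribute [local instance] algFF

variable {k : Type u} [Field k] [IsAlgClosed k] {X : Scheme.{u}} [X.Over (Spec (CommRingCat.of k))] [IsIntegral X]
  [IsProper (X ↘ Spec (CommRingCat.of k))] [Smooth (X ↘ Spec (CommRingCat.of k))]
  (hdim : topologicalKrullDim X = 1) {L : X.Modules} (hL : PicF.IsInvertible L)

include hL in
/-- The functions of the global sections. -/
theorem exists_h0_fun {σ : Gst L} (hσ : IsGen L (genericPoint X) σ) {D : FunFld.Divisor k X.functionField}
    (hD : IsDiv hdim L σ D) : ∃ gl : Γ(L, ⊤) → X.functionField, Function.Injective gl ∧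
      (∀ s, gl s ∈ FunFld.L (k := k) D) ∧ (∀ f ∈ FunFld.L (k := k) D, ∃ s, gl s = f) ∧
      ∀ s, gm L (genericPoint X) (show genericPoint X ∈ (⊤ : X.Opens) from trivial) s =
        ((gl s : X.functionField) : X.presheaf.stalk (genericPoint X)) • σ := by
  classical
  haveI : IsNoetherian X := CurvLib.isNoetherian k
  let η := genericPoint X
  let gl : Γ(L, ⊤) → X.functionField := fun s =>
    ((LinearEquiv.ofBijective (LinearMap.toSpanSingleton (X.presheaf.stalk η) (Gst L) σ) hσ).symm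
      (gm L η (show η ∈ (⊤ : X.Opens) from trivial) s) : X.presheaf.stalk η)
  have hgl : ∀ s, gm L η (show η ∈ (⊤ : X.Opens) from trivial) s = ((gl s : X.functionField) : X.presheaf.stalk η) • σ := fun s =>
    ((LinearEquiv.ofBijective (LinearMap.toSpanSingleton (X.presheaf.stalk η) (Gst L) σ)
      hσ).apply_symm_apply _).symm
  have huniq : ∀ s (f : X.functionField), gm L η (show η ∈ (⊤ : X.Opens) from trivial) s = (f : X.presheaf.stalk η) • σ → gl s = f :=
    fun s f h => hσ.1 ((hgl s).symm.trans h)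
  have hmem : ∀ s, gl s ∈ FunFld.L D := by
    intro s P
    obtain ⟨x, hx, rfl⟩ := exists_point (k := k) hdim P
    obtain ⟨b, hb, g, hg0, hg, hord⟩ := hD x hx
    obtain ⟨c, hc⟩ := hb.2 (gm L x (show x ∈ (⊤ : X.Opens) from trivial) s)
    have h1 : (toFF x c : X.presheaf.stalk η) • sp L x b = ((gl s * g : X.functionField) : X.presheaf.stalk η) • sp L x b := by
      rw [← sp_smul, show c • b = gm L x (show x ∈ (⊤ : X.Opens) from trivial) s from hc, sp_gm, hgl, hg, smul_smul]
    have h2 : toFF x c = gl s * g := (isGen_sp hL hb).1 h1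
    have h3 : (ptPlace (k := k) hdim hx).1 (gl s * g) ≤ 1 := h2 ▸ (ptVal_le_one_iff (k := k) hdim hx _).2 ⟨c, rfl⟩
    rw [map_mul, v_eq _ hg0, hord, exp_neg, ← div_eq_mul_inv, div_le_one₀ exp_pos] at h3
    exact h3
  refine ⟨gl, fun s t h => section_ext hL s t (show η ∈ (⊤ : X.Opens) from trivial) ?_, hmem, fun f' hf' => ?_, hgl⟩
  · rw [hgl, hgl, h]
  · obtain ⟨f, rfl⟩ : ∃ f : FunFld.L (k := k) (K := X.functionField) D, f.1 = f' := ⟨⟨f', hf'⟩, rfl⟩
    -- local sections with the given generic germ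
    let ι := {p : Σ V : X.Opens, Γ(L, V) // ∃ h : η ∈ p.1, gm L η h p.2 = (f.1 : X.presheaf.stalk η) • σ}
    have hcov : ∀ x ∈ (⊤ : X.Opens), ∃ p : ι, x ∈ p.1.1 := by
      intro x _
      by_cases hxη : x = η
      · subst hxη
        obtain ⟨V, hV, t, ht⟩ := exists_gm_eq L η ((f.1 : X.presheaf.stalk η) • σ)
        exact ⟨⟨⟨V, t⟩, hV, ht⟩, hV⟩
      have hx := isClosed_of_ne_generic (k := k) hdim hxη
      obtain ⟨b, hb, g, hg0, hg, hord⟩ := hD x hx
      have h3 : (ptPlace (k := k) hdim hx).1 (f.1 * g) ≤ 1 := by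
        rw [map_mul, v_eq _ hg0, hord, exp_neg, ← div_eq_mul_inv, div_le_one₀ exp_pos]
        exact f.2 _
      obtain ⟨c, hc⟩ := (ptVal_le_one_iff (k := k) hdim hx _).1 h3
      obtain ⟨V, hV, t, ht⟩ := exists_gm_eq L x (c • b)
      refine ⟨⟨⟨V, t⟩, mem_of_nonempty hV, ?_⟩, hV⟩
      change gm L η _ t = _
      rw [← sp_gm L hV t, ht, sp_smul, hg, smul_smul]
      congr 1
    obtain ⟨s, hs⟩ := ModGlueLib.exists_glue (M := L) (V := ⊤) (fun p : ι => p.1.1) (fun _ => le_top) hcov
      (fun p => p.1.2) fun p q => section_ext hL _ _ (show η ∈ p.1.1 ⊓ q.1.1 from ⟨p.2.1, q.2.1⟩) (by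
        rw [gm_map L (inf_le_left : p.1.1 ⊓ q.1.1 ≤ p.1.1) η, gm_map L (inf_le_right : p.1.1 ⊓ q.1.1 ≤ q.1.1) η,
          p.2.2, q.2.2])
    obtain ⟨p, hp⟩ := hcov η trivial
    refine ⟨s, huniq s f.1 ?_⟩
    rw [← gm_map L (le_top : p.1.1 ≤ ⊤) η hp s]
    exact (congrArg (gm L η hp) (hs p)).trans p.2.2

include hdim in
/-- Products of sections cover when products of functions span. -/
theorem surjective_mul {A B : X.Modules} {DA DB : FunFld.Divisor k X.functionField}
    (hA : PicF.IsInvertible A) {σA : Gst A} (hσA : IsGen A (genericPoint X) σA) (hDA : IsDiv hdim A σA DA)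
    (hB : PicF.IsInvertible B) {σB : Gst B} (hσB : IsGen B (genericPoint X) σB) (hDB : IsDiv hdim B σB DB)
    (hspan : FunFld.L (k := k) (DA + DB) ≤
      Submodule.span k {x | ∃ f ∈ FunFld.L (k := k) DA, ∃ g ∈ FunFld.L (k := k) DB, x = f * g}) :
    Function.Surjective ((toSheafify (Opens.grothendieckTopology X)
      (CohB1.tensorPre A B).presheaf).app (Opposite.op ⊤)) := by
  have hη : genericPoint X ∈ (⊤ : X.Opens) := trivial
  obtain ⟨ga, -, hga, hga', hgas⟩ := exists_h0_fun hdim hA hσA hDA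
  obtain ⟨gb, -, hgb, hgb', hgbs⟩ := exists_h0_fun hdim hB hσB hDB
  have hAB := HilbPolyLib.isInvertible_tensor hA hB
  have hσ := isGen_stT hA hB hσA hσB
  obtain ⟨gc, hgc, hgcm, -, hgcs⟩ := exists_h0_fun hdim hAB hσ (hDA.stT hdim hA hB hDB)
  let T := CohB1.tensorMod A B
  let img : ∀ _ : Γ(T, ⊤), Prop := fun z => ∃ w,
    ((toSheafify (Opens.grothendieckTopology X) (CohB1.tensorPre A B).presheaf).app (Opposite.op ⊤)) w = z
  have hshT : ∀ (s : Γ(A, ⊤)) (t : Γ(B, ⊤)), img (AmpleLib.shT s t) := fun s t => ⟨_, rfl⟩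
  have hprod : ∀ (s : Γ(A, ⊤)) (t : Γ(B, ⊤)), gc (AmpleLib.shT s t) = ga s * gb t := fun s t => by
    refine hσ.1 ((hgcs _).symm.trans ?_)
    show gm T (genericPoint X) hη (AmpleLib.shT s t) = _
    rw [← stT_gm, hgas, hgbs, map_smul, map_smul, LinearMap.smul_apply, smul_smul]
    congr 1
    exact mul_comm _ _
  have hzero : gc 0 = 0 := hσ.1 ((hgcs 0).symm.trans (by
    dsimp only
    rw [zero_smul]
    exact map_zero _))
  have hadd : ∀ a b, gc (a + b) = gc a + gc b := fun a b => hσ.1 ((hgcs _).symm.trans (by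
    dsimp only
    rw [add_smul, ← hgcs, ← hgcs]
    exact map_add _ _ _))
  have hsc : ∀ z : X.functionField, z ∈ Submodule.span k
      {x | ∃ f ∈ FunFld.L (k := k) DA, ∃ g ∈ FunFld.L (k := k) DB, x = f * g} → ∃ w, img w ∧ gc w = z := by
    intro z hz
    suffices ∀ c : k, ∃ w, img w ∧ gc w = c • z by simpa using this 1
    induction hz using Submodule.span_induction with
    | mem x hx =>
      intro c
      obtain ⟨f, hf, g, hg, rfl⟩ := hx
      obtain ⟨s, hs⟩ := hga' (c • f) (Submodule.smul_mem _ c hf)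
      obtain ⟨t, ht⟩ := hgb' g hg
      exact ⟨_, hshT s t, by rw [hprod, hs, ht, smul_mul_assoc]⟩
    | zero => exact fun c => ⟨0, ⟨0, map_zero _⟩, by rw [smul_zero, hzero]⟩
    | add x y _ _ hx hy =>
      intro c
      obtain ⟨w, ⟨a, ha⟩, hw⟩ := hx c
      obtain ⟨w', ⟨b, hb⟩, hw'⟩ := hy c
      exact ⟨w + w', ⟨a + b, by rw [map_add, ha, hb]; rfl⟩, by rw [hadd, hw, hw', smul_add]⟩
    | smul r x _ hx =>
      intro c
      obtain ⟨w, hw, hw'⟩ := hx (c * r)
      exact ⟨w, hw, by rw [hw', mul_smul]⟩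
  intro z
  obtain ⟨w, ⟨a, ha⟩, hw⟩ := hsc (gc z) (hspan (hgcm z))
  exact ⟨a, ha.trans (hgc hw)⟩

end CanonRingLib

end
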